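import Cfsg.Agent.Lib.SporPres.He.Act
import Cfsg.Agent.Lib.SporPres.He.S120
import Cfsg.Agent.Lib.SporPres.He.S672
import Cfsg.Agent.Lib.SporPres.He.S126
import Cfsg.Agent.Lib.SporPres.He.S24990

/-! # An upper bound for the order of the presented Held group -/

set_option autoImplicit false

namespace Cfsg.Agent.Lib.SporPres.He

open Cfsg.Agent.Lib.Coset

/-- The letters a, c, d, e, f, g. -/
abbrev lettersSix : List ℕ := [0, 2, 3, 4, 5, 6]

theorem six : (letSub φ lettersSix : Set Cfsg.Spor.He).Finite ∧
    Nat.card (letSub φ lettersSix) ≤ 80640 := by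
  have h120 := letters_step (L := [0, 2, 3, 4]) rfl (card_letSub_nil φ)
    (S120.covers (model_letters pres.φ_inv base'_eq_one (by decide +kernel) (by decide +kernel)))
  exact letters_step (L := lettersSix) rfl h120
    (S672.covers (model_letters pres.φ_inv base'_eq_one (by decide +kernel) (by decide +kernel)))

/-- The word (ab)^2. -/
def uRel : List ℕ := [0, 1, 0, 1]

/-- The words of the subgroup of index 24990. -/
def bigWords : List (List ℕ) := uRel :: lettersSix.map fun a => [a]

/-- The subgroup of index 24990. -/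
abbrev bigK : Subgroup Cfsg.Spor.He := wordSub φ bigWords

theorem bigK_eq : bigK = Subgroup.closure (insert (ev φ uRel) (φ '' {k | k ∈ lettersSix})) := by
  refine congrArg Subgroup.closure ?_
  ext x
  simp [bigWords, lettersSix, ev_cons, ev_nil, eq_comm, uRel]

theorem u_conj (s : ℕ) (hs : s ∈ lettersSix) :
    ev φ uRel * φ s * ev φ uRel ∈ letSub φ lettersSix := by
  have M : Cert.Model S126.cert (pickGen φ [0, 1, 2, 3, 4]) (letSub φ lettersSix) :=
    model_letters pres.φ_inv base'_eq_one (by decide +kernel) (by decide +kernel)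
  have hcomm : ∀ t, List.elem (Coset.rep 2 [1, t]) pres.base = true →
      List.elem (Coset.rep 2 [0, t]) pres.base = true → t ∈ lettersSix →
      ev φ uRel * φ t * ev φ uRel ∈ letSub φ lettersSix := by
    intro t h1 h0 ht
    have c : ∀ x, List.elem (Coset.rep 2 [x, t]) pres.base = true → Commute (φ x) (φ t) := by
      intro x hx
      show φ x * φ t = φ t * φ x
      have h := pres.base_eq_one _ (List.elem_iff.1 hx)
      rw [ev_rep, ev_cons, ev_cons, ev_nil, mul_one, pow_two] at h
      rw [mul_eq_one_iff_eq_inv] at h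
      rw [h, mul_inv_rev, inv_eq_of_mul_eq_one_right (pres.φ_inv x),
        inv_eq_of_mul_eq_one_right (pres.φ_inv t)]
    have hc : Commute (ev φ uRel) (φ t) := by
      simp only [uRel, ev_cons, ev_nil, mul_one]
      exact (c 0 h0).mul_left ((c 1 h1).mul_left ((c 0 h0).mul_left (c 1 h1)))
    have hu : ev φ uRel * ev φ uRel = 1 := by
      rw [← ev_append]
      exact ev_rot pres.base_eq_one (by decide +kernel)
    rw [hc.eq, mul_assoc, hu, mul_one]
    exact Subgroup.subset_closure ⟨t, ht, rfl⟩
  have path : ∀ w : List ℕ, w.all (· < 5) = true → S126.tab.app w.reverse 0 = 0 →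
      ev φ (w.map fun k => [0, 1, 2, 3, 4].getD k 0) ∈ letSub φ lettersSix := by
    intro w hw hp
    have h := mem_of_path (C := S126.cert) (P := S126.tab) (ord := S126.ord) (w := w)
      (by decide +kernel) (by decide +kernel) (fun e he => S126.edges_hold M e he) hw hp
    rwa [ev_pickGen] at h
  simp only [lettersSix, List.mem_cons, List.not_mem_nil, or_false] at hs
  rcases hs with rfl | rfl | rfl | rfl | rfl | rfl
  · have h := path (uRel ++ [0] ++ uRel) (by decide +kernel) (by decide +kernel)
    simpa [uRel, ev_cons, ev_nil, mul_assoc] using h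
  · have h := path (uRel ++ [2] ++ uRel) (by decide +kernel) (by decide +kernel)
    simpa [uRel, ev_cons, ev_nil, mul_assoc] using h
  · exact hcomm 3 (by decide +kernel) (by decide +kernel) (by simp)
  · exact hcomm 4 (by decide +kernel) (by decide +kernel) (by simp)
  · exact hcomm 5 (by decide +kernel) (by decide +kernel) (by simp)
  · exact hcomm 6 (by decide +kernel) (by decide +kernel) (by simp)

theorem big : (bigK : Set Cfsg.Spor.He).Finite ∧ Nat.card bigK ≤ 161280 := by
  rw [bigK_eq]
  have h := card_le_double (S := φ '' {k | k ∈ lettersSix}) (u := ev φ uRel)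
    (by rintro _ ⟨k, -, rfl⟩; exact pres.φ_inv k)
    (by rw [← ev_append]; exact ev_rot pres.base_eq_one (by decide +kernel)) six.1
    (by rintro _ ⟨k, hk, rfl⟩; exact u_conj k hk)
  exact ⟨h.1, h.2.trans ((Nat.mul_le_mul le_rfl six.2).trans (by norm_num))⟩

theorem gen : Subgroup.closure (φ '' Set.Iio 7) = ⊤ := pres.gen

theorem group_le : Finite Cfsg.Spor.He ∧ Nat.card Cfsg.Spor.He ≤ 4030387200 := by
  have M : Cert.Model S24990.cert φ bigK :=
    model_of pres.φ_inv pres.base_eq_one (by decide +kernel) (fun s hs => by
      have h : (S24990.cert.subs.all fun w => bigWords.contains w) = true := by decide +kernel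
      have := List.all_eq_true.1 h s hs
      exact Subgroup.subset_closure ⟨s, List.contains_iff_mem.1 this, rfl⟩)
  have h := card_le_of_cover big.1 (S24990.covers M)
  rw [gen, Subgroup.card_top] at h
  refine ⟨?_, h.2.trans ((Nat.mul_le_mul le_rfl big.2).trans (by norm_num))⟩
  have h1 := h.1
  rw [Subgroup.coe_top] at h1
  exact Set.finite_univ_iff.1 h1

end Cfsg.Agent.Lib.SporPres.He
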