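import Cfsg.Prelude.Def_Sporadic
import Cfsg.Agent.Lib.SporPres.He.Upper
import Cfsg.Agent.Lib.SporPres.He.S2058

/-! # Cosets, order and simplicity of the presented Held group -/

set_option autoImplicit false

namespace Cfsg.Agent.Lib.SporPres.He

open Cfsg.Agent.Lib.Coset

/-- The words of the subgroup of index 2058. -/
def subWords : List (List ℕ) := [[0], [2], [3], [4], [5], uRel, Coset.rep 7 [1, 2, 3, 4]]

/-- The subgroup of index 2058. -/
abbrev subK : Subgroup Cfsg.Spor.He := wordSub φ subWords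

theorem model2058 : Cert.Model S2058.cert φ subK :=
  model_of pres.φ_inv pres.base_eq_one (by decide +kernel) (fun s hs => by
    have h : (S2058.cert.subs.all fun w => subWords.contains w) = true := by decide +kernel
    have := List.all_eq_true.1 h s hs
    exact Subgroup.subset_closure ⟨s, List.contains_iff_mem.1 this, rfl⟩)

theorem pos : 0 < tab.size := by decide +kernel

/-- The representation on the cosets. -/
noncomputable def rep : Rep Cfsg.Spor.He tab :=
  mkRep tab S2058.cert S2058.ord φ subK act good act_φ pos gen (by decide +kernel)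
    (fun e he => S2058.edges_hold model2058 e he) (S2058.covers model2058) (by decide +kernel)
    (fix_of act_φ pos (by decide +kernel) (by decide +kernel) le_rfl)

theorem index_subK : subK.index = 2058 := rep.index_eq

theorem chain_ok : tab.chainOK chain = true := by decide +kernel

theorem chain_letters : (chain.all fun l => lettersBelow tab.gens l.2.1) = true := by decide +kernel

theorem range_ge : 4030387200 ≤ Nat.card act.range := by
  have h : Tab.chainCard chain = 4030387200 := by decide +kernel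
  rw [← h]
  refine tab.chain_spec good chain_ok fun l hl w hw => ⟨ev φ w, ?_⟩
  have hlt := List.all_eq_true.1 chain_letters l hl
  exact act_ev w (List.all_eq_true.1 hlt w hw)

theorem card_and_inj : Nat.card Cfsg.Spor.He = 4030387200 ∧ Function.Injective act :=
  rep.order group_le.1 group_le.2 range_ge

theorem card_subK : Nat.card subK = 1958400 := by
  have h := Subgroup.index_mul_card subK
  rw [index_subK, card_and_inj.1] at h
  omega

theorem orbit_ok : (orbs.all fun o => tab.orbitOK subWords o.1 o.2 && tab.closedOK subWords o.1 o.2) =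
    true := by decide +kernel

theorem orbits (o : ℕ × List Tab.Step) (ho : o ∈ orbs) (hb : o.1 < tab.size) :
    (MulAction.orbit (subK.map act) (⟨o.1, hb⟩ : Fin tab.size)).ncard = o.2.length + 1 ∧
      ∀ x : Fin tab.size, x ∈ MulAction.orbit (subK.map act) (⟨o.1, hb⟩ : Fin tab.size) ↔
        (x : ℕ) ∈ Tab.pts o.1 o.2 := by
  have h := List.all_eq_true.1 orbit_ok o ho
  rw [Bool.and_eq_true] at h
  exact Tab.orbit_eq good h.1 h.2
    (by rw [map_wordSub act φ (tab.perm good) act_φ (by decide +kernel)]) hb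

theorem exists_suborbits : ∃ q₁ q₂ q₃ q₄ : Cfsg.Spor.He ⧸ subK,
    MulAction.orbit subK q₁ ≠ MulAction.orbit subK q₂ ∧
    (MulAction.orbit subK q₁).ncard = 136 ∧ (MulAction.orbit subK q₂).ncard = 136 ∧
    (MulAction.orbit subK q₃).ncard = 425 ∧ (MulAction.orbit subK q₄).ncard = 1360 := by
  have h : orb0.2.length + 1 = 1360 ∧ orb1.2.length + 1 = 425 ∧
      orb2.2.length + 1 = 136 ∧ orb3.2.length + 1 = 136 ∧
      orb0.1 < tab.size ∧ orb1.1 < tab.size ∧ orb2.1 < tab.size ∧ orb3.1 < tab.size ∧
      (Tab.pts orb3.1 orb3.2).contains orb2.1 = false := by decide +kernel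
  obtain ⟨h0, h1, h2, h3, b0, b1, b2, b3, hsep⟩ := h
  have key : ∀ o ∈ orbs, ∀ hb : o.1 < tab.size, ∀ q, rep.equiv q = ⟨o.1, hb⟩ →
      (MulAction.orbit subK q).ncard = o.2.length + 1 := fun o ho hb q hq => by
    refine (rep.ncard_orbit q).trans ?_
    rw [hq]
    exact (orbits o ho hb).1
  obtain ⟨q0, e0⟩ := rep.exists_orbit b0
  obtain ⟨q1, e1⟩ := rep.exists_orbit b1
  obtain ⟨q2, e2⟩ := rep.exists_orbit b2
  obtain ⟨q3, e3⟩ := rep.exists_orbit b3
  refine ⟨q2, q3, q1, q0, ?_, (key _ (by simp [orbs]) b2 q2 e2).trans h2,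
    (key _ (by simp [orbs]) b3 q3 e3).trans h3, (key _ (by simp [orbs]) b1 q1 e1).trans h1,
    (key _ (by simp [orbs]) b0 q0 e0).trans h0⟩
  intro heq
  have hmem : q2 ∈ MulAction.orbit subK q3 := heq ▸ MulAction.mem_orbit_self q2
  obtain ⟨k, hk⟩ := hmem
  have : (⟨orb2.1, b2⟩ : Fin tab.size) ∈
      MulAction.orbit (subK.map act) (⟨orb3.1, b3⟩ : Fin tab.size) := by
    refine ⟨⟨act k, k, k.2, rfl⟩, ?_⟩
    rw [← e2, ← e3, ← hk]
    induction q3 using Quotient.inductionOn with
    | _ a => exact (by show _ = act ((k : Cfsg.Spor.He) * a) _; rw [map_mul]; rfl)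
  have := ((orbits orb3 (by simp [orbs]) b3).2 _).1 this
  rw [List.contains_eq_mem, decide_eq_false_iff_not] at hsep
  exact hsep this

theorem witness_fix : ∀ i < tab.size,
    ∀ w ∈ [Coset.rep 7 xWord, gWord.reverse ++ (zWord ++ (gWord ++ [6]))], tab.app w i = i :=
  Tab.relOK_spec (B := 400) (by norm_num) fun k hk => by
    have hk' : k < 6 := by have := size_eq; omega
    interval_cases k <;> decide +kernel

theorem isHe : Cfsg.IsHe Cfsg.Spor.He := by
  have hinj := card_and_inj.2
  have hfin := group_le.1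
  refine ⟨?_, card_and_inj.1⟩
  have hnt : Nontrivial Cfsg.Spor.He := by
    rw [← Finite.one_lt_card_iff_nontrivial, card_and_inj.1]
    norm_num
  refine ⟨fun N hN => or_iff_not_imp_left.2 fun hne => ?_⟩
  have hsup := rep.sup_eq_top hinj (orbs := orbs) (by decide +kernel) orbits N hne
  have hx7 : ev φ xWord ^ 7 = 1 := by
    rw [← ev_rep]
    exact ev_eq_one_of_fix act_φ hinj (by decide +kernel) fun i hi => witness_fix i hi _ (by simp)
  have hx : ev φ xWord ∈ N := rep.mem_of_coprime hsup hx7 (by
    show Nat.Coprime 7 (Nat.card subK)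
    rw [card_subK]; norm_num)
  have hg : φ 6 ∈ N := gen_mem pres.φ_inv (z := zWord) (g := gWord)
    (witWord_mem pres.φ_inv hx)
    (ev_eq_one_of_fix act_φ hinj (by decide +kernel) fun i hi => witness_fix i hi _ (by simp))
  have cox : ∀ i j m, List.elem (Coset.rep m [i, j]) pres.base = true →
      (φ i * φ j) ^ m = 1 := fun i j m h => by
    have := pres.base_eq_one _ (List.elem_iff.1 h)
    rwa [ev_rep, ev_cons, ev_cons, ev_nil, mul_one] at this
  have hd : φ 3 ∈ N := mem_of_odd (pres.φ_inv 3) (by decide) (cox 6 3 3 (by decide +kernel)) hg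
  have he : φ 4 ∈ N := mem_of_odd (pres.φ_inv 4) (by decide) (cox 3 4 3 (by decide +kernel)) hd
  have hf : φ 5 ∈ N := mem_of_odd (pres.φ_inv 5) (by decide) (cox 3 5 3 (by decide +kernel)) hd
  -- modulo the subgroup the relators leave a = c and then b = 1
  let q := QuotientGroup.mk' N
  have hq : ∀ {y}, y ∈ N → q y = 1 := fun h => (QuotientGroup.eq_one_iff _).2 h
  have inv : ∀ k, q (φ k) * q (φ k) = 1 := fun k => by rw [← map_mul, pres.φ_inv, map_one]
  have hac : q (φ 0) = q (φ 2) := by
    have h := congrArg q (pres.base_eq_one ([0] ++ (Coset.rep 5 [2, 3]).reverse)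
      (by simp [Pres.base, pres]))
    simp only [ev_append, ev_reverse _ _ fun k _ => pres.φ_inv k, ev_rep, ev_cons, ev_nil, mul_one,
      map_pow, map_mul, map_inv, map_one, hq hd] at h
    have h5 : q (φ 2) ^ 5 = q (φ 2) := by
      rw [pow_succ, show (4 : ℕ) = 2 * 2 from rfl, pow_mul, pow_two (q (φ 2)), inv, one_pow,
        one_mul]
    exact (mul_inv_eq_one.1 h).trans h5
  have hb : φ 1 ∈ N := by
    have h := congrArg q (pres.base_eq_one ([4] ++ (Coset.rep 3 [0, 1, 2]).reverse)
      (by simp [Pres.base, pres]))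
    simp only [ev_append, ev_reverse _ _ fun k _ => pres.φ_inv k, ev_rep, ev_cons, ev_nil, mul_one,
      map_pow, map_mul, map_inv, map_one, hq he, one_mul, inv_eq_one, ← hac] at h
    have hc : q (φ 0) * (q (φ 1) * q (φ 0)) = (q (φ 0)) * q (φ 1) * (q (φ 0))⁻¹ := by
      rw [inv_eq_of_mul_eq_one_right (inv 0), mul_assoc]
    rw [hc, conj_pow, conj_eq_one_iff, pow_succ, pow_two, inv, one_mul] at h
    exact (QuotientGroup.eq_one_iff _).1 h
  have hc : φ 2 ∈ N := mem_of_odd (pres.φ_inv 2) (by decide) (cox 1 2 3 (by decide +kernel)) hb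
  have ha : φ 0 ∈ N := (QuotientGroup.eq_one_iff _).1 (hac.trans (hq hc))
  rw [eq_top_iff, ← gen]
  refine (Subgroup.closure_le _).2 ?_
  rintro _ ⟨k, hk, rfl⟩
  rw [Set.mem_Iio] at hk
  interval_cases k <;> assumption

end Cfsg.Agent.Lib.SporPres.He
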