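import Cfsg.Agent.Lib.SporPres.He.Pres
import Cfsg.Agent.Lib.SporPres.He.S2058Tab
import Cfsg.Agent.Lib.SporPres.He.Orbits
import Cfsg.Agent.Lib.SporPres.He.S8
import Cfsg.Agent.Lib.SporPres.He.S6
import Cfsg.Agent.Lib.SporPres.He.S315
import Cfsg.Agent.Lib.Coset.Path

/-! # The action of the presented Held group on 2058 points, and the relation (cde)^5 = 1 -/

set_option autoImplicit false

namespace Cfsg.Agent.Lib.SporPres.He

open Cfsg.Agent.Lib.Coset

/-- The table. -/
abbrev tab : Tab := S2058.tab

theorem size_eq : tab.size = 2058 := rfl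

theorem good : tab.Good :=
  Tab.good_of_invOK (B := 1100) (fun k hk => by
    have hk' : k < 2 := by have := size_eq; omega
    interval_cases k <;> decide +kernel) (by norm_num)

theorem relators : ∀ i < tab.size, ∀ w ∈ pres.base, tab.app w i = i :=
  Tab.relOK_spec (B := 250) (by norm_num) fun k hk => by
    have hk' : k < 9 := by have := size_eq; omega
    interval_cases k <;> decide +kernel

theorem base_lt : ∀ w ∈ pres.base, ∀ k ∈ w, k < tab.gens := by decide +kernel

/-- The action on the points. -/
noncomputable def act : Cfsg.Spor.He →* Equiv.Perm (Fin tab.size) :=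
  pres.toPerm tab good relators base_lt idx idx_lt gl_idx idx_gl words_lt

theorem act_φ : ∀ g < tab.gens, act (φ g) = tab.perm good g :=
  pres.toPerm_φ tab good relators base_lt idx idx_lt gl_idx idx_gl words_lt rfl

theorem act_ev (w : List ℕ) (hw : w.all (· < tab.gens) = true) :
    act (ev φ w) = ev (tab.perm good) w := by
  simp only [List.all_eq_true, decide_eq_true_eq] at hw
  rw [ev_comp, ev, ev, List.map_congr_left (f := ⇑act ∘ φ) (g := tab.perm good) fun a ha =>
    act_φ a (hw a ha)]

theorem model {C : Cert} {L L' : List ℕ}
    (hr : (C.rels.all fun r => isRot pres.base (r.map fun k => L.getD k 0)) = true)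
    (hs : (C.subs.all fun w => w.all fun a => L'.contains (L.getD a 0)) = true) :
    Cert.Model C (pickGen φ L) (letSub φ L') :=
  model_letters pres.φ_inv pres.base_eq_one hr hs

/-- The subgroup generated by a, b, c, e. -/
abbrev small : Subgroup Cfsg.Spor.He := letSub φ [0, 1, 2, 4]

theorem small_le : (small : Set Cfsg.Spor.He).Finite ∧ Nat.card small ≤ 48 := by
  have h8 := letters_step (L := [0, 1]) rfl (card_letSub_nil φ)
    (S8.covers (model (by decide +kernel) (by decide +kernel)))
  exact letters_step (L := [0, 1, 2, 4]) rfl h8
    (S6.covers (model (by decide +kernel) (by decide +kernel)))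

theorem small_ge : 48 ≤ Nat.card (small.map act) := by
  have h : Tab.chainCard smallChain = 48 := by decide +kernel
  rw [← h]
  refine tab.chain_spec good (by decide +kernel) fun l hl w hw => ?_
  have hl' : (smallChain.all fun l => l.2.1.all fun w =>
      w.all fun a => List.contains [0, 1, 2, 4] a && decide (a < tab.gens)) = true := by
    decide +kernel
  have h' := List.all_eq_true.1 (List.all_eq_true.1 hl' l hl) w hw
  simp only [List.all_eq_true, Bool.and_eq_true, decide_eq_true_eq] at h'
  refine ⟨ev φ w, ev_mem_letSub (List.all_eq_true.2 fun a ha => (h' a ha).1), ?_⟩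
  exact act_ev w (List.all_eq_true.2 fun a ha => decide_eq_true (h' a ha).2)

/-- The word (cde)^5. -/
def zRel : List ℕ := Coset.rep 5 [2, 3, 4]

theorem zRel_fix : ∀ i < tab.size, ∀ w ∈ [zRel], tab.app w i = i :=
  Tab.relOK_spec (B := 1100) (by norm_num) fun k hk => by
    have hk' : k < 2 := by have := size_eq; omega
    interval_cases k <;> decide +kernel

theorem zRel_eq_one : ev φ zRel = 1 := by
  refine eq_one_of_card act small_le.1 (small_le.2.trans small_ge) ?_ ?_
  · have M : Cert.Model S315.cert (pickGen φ [0, 1, 2, 3, 4]) small :=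
      model (by decide +kernel) (by decide +kernel)
    have h := mem_of_path (C := S315.cert) (P := S315.tab) (ord := S315.ord) (w := zRel)
      (by decide +kernel) (by decide +kernel) (fun e he => S315.edges_hold M e he)
      (by decide +kernel) (by decide +kernel)
    rw [ev_pickGen] at h
    exact h
  · rw [act_ev zRel (by decide +kernel)]
    exact Tab.ev_perm_eq_one good (by decide +kernel) fun i hi => zRel_fix i hi _ (by simp)

/-- The relators together with (cde)^5. -/
def base' : List (List ℕ) := zRel :: pres.base

theorem base'_eq_one : ∀ w ∈ base', ev φ w = 1 := by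
  intro w hw
  rcases List.mem_cons.1 hw with rfl | hw
  · exact zRel_eq_one
  · exact pres.base_eq_one w hw

end Cfsg.Agent.Lib.SporPres.He
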