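import Cfsg.Agent.Lib.Coset.Words

/-! # The field with four elements, for evaluation in the kernel -/

set_option autoImplicit false

namespace Cfsg.Agent.Lib.SporPres.He

/-- The field with four elements. -/
inductive Four
  | z0
  | z1
  | zw
  | zv
  deriving DecidableEq

namespace Four

instance : Fintype Four :=
  ⟨⟨↑[z0, z1, zw, zv], by simp⟩, fun x => by cases x <;> simp⟩

/-- The code of an element. -/
def code : Four → ℕ
  | z0 => 0
  | z1 => 1
  | zw => 2
  | zv => 3

/-- The element of a code. -/
def ofCode : ℕ → Four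
  | 0 => z0
  | 1 => z1
  | 2 => zw
  | _ => zv

/-- Addition. -/
def add : Four → Four → Four
  | z0, y => y
  | x, z0 => x
  | z1, z1 => z0
  | zw, zw => z0
  | zv, zv => z0
  | z1, zw => zv
  | zw, z1 => zv
  | z1, zv => zw
  | zv, z1 => zw
  | zw, zv => z1
  | zv, zw => z1

/-- Multiplication. -/
def mul : Four → Four → Four
  | z0, _ => z0
  | _, z0 => z0
  | z1, y => y
  | x, z1 => x
  | zw, zw => zv
  | zv, zv => zw
  | zw, zv => z1
  | zv, zw => z1

/-- Inversion. -/
def inv : Four → Four
  | z0 => z0
  | z1 => z1
  | zw => zv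
  | zv => zw

instance : Zero Four := ⟨z0⟩
instance : One Four := ⟨z1⟩
instance : Add Four := ⟨add⟩
instance : Mul Four := ⟨mul⟩
instance : Neg Four := ⟨id⟩
instance : Inv Four := ⟨inv⟩

instance : Field Four :=
  Field.ofMinimalAxioms Four (by decide +kernel) (by decide +kernel) (by decide +kernel)
    (by decide +kernel) (by decide +kernel) (by decide +kernel) (by decide +kernel)
    (by decide +kernel) (by decide +kernel) ⟨z0, z1, by decide⟩

theorem card_four : Fintype.card Four = 4 := rfl

end Four

end Cfsg.Agent.Lib.SporPres.He
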