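import Cfsg.Agent.Lib.Coset.Cover

/-! # Generated coset enumeration data: S6 -/

set_option autoImplicit false

namespace Cfsg.Agent.Lib.SporPres.He.S6

open Cfsg.Agent.Lib.Coset

set_option maxRecDepth 8000

/-- The facts. -/
def factStore : Store :=
  .leaf 0x400004100005000043000030000500000200002000001000012000050000520000300003100002000021000000000000000000000200002000040000050000330000400001100003000013000020000020000100000

/-- The defining facts. -/
def defStore : Store :=
  .leaf 0x40000300002000010000000000

/-- The certificate. -/
def cert : Cert where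
  gens := 4
  nfacts := 16
  rels := [[0,2,0,2],[2,0,2,0],[0,3,0,3],[1,3,1,3],[3,2,3,2],[1,2,1,2,1,2],[0,2,1,0,2,1,0,3,2,1],[0,2,1,0,3,2,1,0,2,1],[0,3,2,1,0,2,1,0,2,1]]
  subs := [[0],[1]]
  facts := factStore
  defs := defStore

/-- The nodes of the cosets. -/
def ord : Store :=
  .leaf 0x50000400003000020000100000

/-- A column. -/
def col0 : Store :=
  .leaf 0x30000400005000020000100000

/-- A column. -/
def col1 : Store :=
  .leaf 0x40000500001000020000300000

/-- A column. -/
def col2 : Store :=
  .leaf 0x50000200003000040000000001

/-- A column. -/
def col3 : Store :=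
  .leaf 0x30000100005000000000400002

/-- The table. -/
def tab : Tab where
  size := 6
  gens := 4
  cols := [col0, col1, col2, col3]

end Cfsg.Agent.Lib.SporPres.He.S6
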