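import Cfsg.Agent.Lib.SporPres.He.SpGroup
import Cfsg.Agent.Lib.SporPres.He.Order

/-! # The subgroup of index 2058 of the presented Held group contains Sp(4, 4) with index two -/

set_option autoImplicit false

namespace Cfsg.Agent.Lib.SporPres.He.Sp

open Cfsg.Agent.Lib.Coset

theorem pts_spec : ∀ i : Fin 425, nodeOf ptsS i < 2058 ∧ nodeOf blkS i < 85 ∧
    nodeOf posS (nodeOf ptsS i) = i := by decide +kernel

theorem first_spec : ∀ k : Fin 85, nodeOf firstS k < 425 ∧ nodeOf blkS (nodeOf firstS k) = k := by
  decide +kernel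

/-- A point of the suborbit. -/
noncomputable def pt (i : Fin 425) : Fin tab.size := ⟨nodeOf ptsS i, (pts_spec i).1⟩

/-- Its block. -/
noncomputable def bl (i : Fin 425) : Fin 85 := ⟨nodeOf blkS i, (pts_spec i).2.1⟩

theorem pt_inj : Function.Injective pt := fun i j h => Fin.ext (by
  rw [← (pts_spec i).2.2, ← (pts_spec j).2.2]
  exact congrArg (fun q : Fin tab.size => nodeOf posS q) h)

/-- A permutation of the points induces another one on the blocks. -/
def Compat (g : Equiv.Perm (Fin tab.size)) (σ : Equiv.Perm (Fin 85)) : Prop :=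
  ∀ i : Fin 425, ∃ j, g (pt i) = pt j ∧ bl j = σ (bl i)

theorem compat_one : Compat 1 1 := fun i => ⟨i, rfl, rfl⟩

theorem compat_mul {g h : Equiv.Perm (Fin tab.size)} {σ τ : Equiv.Perm (Fin 85)}
    (hg : Compat g σ) (hh : Compat h τ) : Compat (g * h) (σ * τ) := fun i => by
  obtain ⟨j, hj, hb⟩ := hh i
  obtain ⟨k, hk, hc⟩ := hg j
  exact ⟨k, by rw [Equiv.Perm.mul_apply, hj, hk], by rw [hc, hb, Equiv.Perm.mul_apply]⟩

theorem compat_unique {g : Equiv.Perm (Fin tab.size)} {σ τ : Equiv.Perm (Fin 85)}
    (hs : Compat g σ) (ht : Compat g τ) : σ = τ := Equiv.ext fun k => by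
  have hk : bl ⟨_, (first_spec k).1⟩ = k := Fin.ext (first_spec k).2
  obtain ⟨j, hj, hb⟩ := hs ⟨_, (first_spec k).1⟩
  obtain ⟨j', hj', hb'⟩ := ht ⟨_, (first_spec k).1⟩
  rw [hk] at hb hb'
  rw [← hb, ← hb', pt_inj (hj.symm.trans hj')]

/-- The chosen words. -/
def word (g : ℕ) : List ℕ := (picks.getD g []).flatMap fun k => subWords.getD k []

theorem word_letters : ∀ g < 4, (word g).all (· < tab.gens) = true := by decide +kernel

theorem word_moves : ∀ g : Fin 4, ∀ i : Fin 425,
    nodeOf posS (tab.app (word g) (nodeOf ptsS i)) < 425 ∧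
      nodeOf ptsS (nodeOf posS (tab.app (word g) (nodeOf ptsS i))) =
        tab.app (word g) (nodeOf ptsS i) ∧
      nodeOf blkS (nodeOf posS (tab.app (word g) (nodeOf ptsS i))) = tab85.act g (nodeOf blkS i) := by
  decide +kernel

theorem compat_word (g : ℕ) (hg : g < 4) :
    Compat (act (ev φ (word g))) (tab85.perm good85 g) := fun i => by
  obtain ⟨h1, h2, h3⟩ := word_moves ⟨g, hg⟩ i
  have hlet := word_letters g hg
  refine ⟨⟨_, h1⟩, Fin.ext ?_, Fin.ext ?_⟩
  · rw [act_ev _ hlet]
    exact (Tab.ev_perm_apply good _ (by simpa using hlet) _).trans h2.symm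
  · rw [Tab.perm, dif_pos (show g < tab85.gens from hg)]
    exact h3

/-- The subgroup generated by the chosen words. -/
abbrev subW : Subgroup Cfsg.Spor.He := wordSub φ ((List.range 4).map word)

theorem exists_compat {x : Cfsg.Spor.He} (hx : x ∈ subW) : ∃ σ, Compat (act x) σ := by
  haveI := group_le.1
  rw [subW, wordSub, ← Subgroup.mem_toSubmonoid, Subgroup.closure_toSubmonoid_of_finite] at hx
  induction hx using Submonoid.closure_induction with
  | mem x hx =>
    obtain ⟨w, hw, rfl⟩ := hx
    obtain ⟨g, hg, rfl⟩ := List.mem_map.1 hw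
    exact ⟨_, compat_word g (List.mem_range.1 hg)⟩
  | one => exact ⟨1, by rw [map_one]; exact compat_one⟩
  | mul x y _ _ hx hy =>
    obtain ⟨σ, hσ⟩ := hx
    obtain ⟨τ, hτ⟩ := hy
    exact ⟨σ * τ, by rw [map_mul]; exact compat_mul hσ hτ⟩

/-- The action on the 85 points. -/
noncomputable def blockHom : subW →* Equiv.Perm (Fin 85) :=
  MonoidHom.mk' (fun x => (exists_compat x.2).choose) fun x y =>
    compat_unique (exists_compat (x * y).2).choose_spec (by
      rw [Subgroup.coe_mul, map_mul]
      exact compat_mul (exists_compat x.2).choose_spec (exists_compat y.2).choose_spec)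

theorem perm_mem (g : ℕ) (hg : g < 4) : tab85.perm good85 g ∈ blockHom.range := by
  have h : ev φ (word g) ∈ subW :=
    Subgroup.subset_closure ⟨word g, List.mem_map.2 ⟨g, List.mem_range.2 hg, rfl⟩, rfl⟩
  exact ⟨⟨_, h⟩, compat_unique (exists_compat h).choose_spec (compat_word g hg)⟩

theorem blockHom_range_ge : 1958400 ≤ Nat.card blockHom.range := by
  have h : Tab.chainCard chainAll = 1958400 := by decide +kernel
  rw [← h]
  refine tab85.chain_spec good85 (by decide +kernel) fun l hl w hw => ?_
  have hl' : (chainAll.all fun l => lettersBelow 4 l.2.1) = true := by decide +kernel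
  have h' := List.all_eq_true.1 (List.all_eq_true.1 hl' l hl) w hw
  simp only [List.all_eq_true, decide_eq_true_eq] at h'
  exact Subgroup.list_prod_mem _ fun x hx => by
    obtain ⟨a, ha, rfl⟩ := List.mem_map.1 hx
    exact perm_mem a (h' a ha)

theorem subW_le : subW ≤ subK := by
  have h : ((List.range 4).all fun g => (picks.getD g []).all fun k => decide (k < subWords.length)) =
      true := by decide +kernel
  refine (Subgroup.closure_le _).2 ?_
  rintro _ ⟨w, hw, rfl⟩
  obtain ⟨g, hg, rfl⟩ := List.mem_map.1 hw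
  have h' := List.all_eq_true.1 h g hg
  simp only [List.all_eq_true, decide_eq_true_eq] at h'
  unfold word
  generalize picks.getD g [] = ks at h'
  induction ks with
  | nil => exact subK.one_mem
  | cons k ks ih =>
    rw [List.flatMap_cons, ev_append]
    refine subK.mul_mem (Subgroup.subset_closure ⟨_, ?_, rfl⟩)
      (ih fun a ha => h' a (List.mem_cons_of_mem _ ha))
    rw [Set.mem_ofPred_eq, List.getD_eq_getElem _ _ (h' k (by simp))]
    exact List.getElem_mem _

theorem card_subW : Nat.card subW = 1958400 ∧ Function.Injective blockHom := by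
  haveI := group_le.1
  have h1 : Nat.card blockHom.range ≤ Nat.card subW :=
    Nat.card_le_card_of_surjective blockHom.rangeRestrict blockHom.rangeRestrict_surjective
  have h2 : Nat.card subW ≤ 1958400 :=
    card_subK ▸ Subgroup.card_le_of_le subW_le
  have hb : Function.Bijective blockHom.rangeRestrict :=
    (Nat.bijective_iff_surjective_and_card _).2
      ⟨blockHom.rangeRestrict_surjective, by have := blockHom_range_ge; omega⟩
  exact ⟨by have := blockHom_range_ge; omega, MonoidHom.rangeRestrict_injective_iff.1 hb.injective⟩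

theorem subW_eq : subW = subK := by
  haveI := group_le.1
  exact Subgroup.eq_of_le_of_card_ge subW_le (by rw [card_subK, card_subW.1])

/-- The part of Sp(4, 4). -/
noncomputable def spPart : Subgroup subW := move.range.comap blockHom

theorem move_le : move.range ≤ blockHom.range := by
  rw [move_range.1]
  refine (Subgroup.closure_le _).2 ?_
  rintro _ ⟨g, hg, rfl⟩
  exact perm_mem g (Nat.lt_succ_of_lt hg)

/-- It is the symplectic group. -/
noncomputable def spEquiv : spPart ≃* Sp4 :=
  ((spPart.equivMapOfInjective blockHom card_subW.2).trans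
    (MulEquiv.subgroupCongr (Subgroup.map_comap_eq_self move_le))).trans
    (MonoidHom.ofInjective move_injective).symm

theorem spPart_index : spPart.index = 2 := by
  have hc : Nat.card spPart = 979200 := (Nat.card_congr spEquiv.toEquiv).trans card_Sp4
  have h := Subgroup.index_mul_card spPart
  rw [hc, card_subW.1] at h
  exact Nat.eq_of_mul_eq_mul_right (by norm_num : 0 < 979200)
    (h.trans (by norm_num : 1958400 = 2 * 979200))

theorem exists_sp : ∃ (N : Subgroup subK) (K : Type) (_ : Field K) (_ : Fintype K),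
    N.Normal ∧ N.index = 2 ∧ Fintype.card K = 4 ∧
      Nonempty (N ≃* Matrix.symplecticGroup (Fin 2) K) := by
  suffices key : ∀ P : Subgroup Cfsg.Spor.He, P = subW → ∃ (N : Subgroup P) (K : Type)
      (_ : Field K) (_ : Fintype K), N.Normal ∧ N.index = 2 ∧ Fintype.card K = 4 ∧
        Nonempty (N ≃* Matrix.symplecticGroup (Fin 2) K) from key subK subW_eq.symm
  rintro P rfl
  exact ⟨spPart, Four, inferInstance, inferInstance, Subgroup.normal_of_index_eq_two spPart_index,
    spPart_index, Four.card_four, ⟨spEquiv⟩⟩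

/-- The stabiliser of a point is the subgroup of index 2058. -/
noncomputable def stabHom : subK →* MulAction.stabilizer act.range rep.z where
  toFun x := ⟨⟨act (x : Cfsg.Spor.He), (x : Cfsg.Spor.He), rfl⟩, rep.fix (x : Cfsg.Spor.He) x.2⟩
  map_one' := Subtype.ext (Subtype.ext (map_one act))
  map_mul' x y := Subtype.ext (Subtype.ext (map_mul act (x : Cfsg.Spor.He) (y : Cfsg.Spor.He)))

theorem stabHom_bijective : Function.Bijective stabHom := by
  refine ⟨fun x y h => Subtype.ext (card_and_inj.2 ?_), ?_⟩
  · exact congrArg (fun q : MulAction.stabilizer act.range rep.z =>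
      ((q : act.range) : Equiv.Perm (Fin tab.size))) h
  · rintro ⟨⟨_, x, rfl⟩, hx⟩
    exact ⟨⟨x, (rep.mem_iff x).2 hx⟩, rfl⟩

theorem range_pretransitive : MulAction.IsPretransitive act.range (Fin tab.size) := by
  refine ⟨fun x y => ?_⟩
  obtain ⟨g, rfl⟩ := rep.transitive x
  obtain ⟨k, rfl⟩ := rep.transitive y
  refine ⟨⟨act (k * g⁻¹), _, rfl⟩, ?_⟩
  show act (k * g⁻¹) (rep.ρ g rep.z) = rep.ρ k rep.z
  rw [show rep.ρ = act from rfl, ← Equiv.Perm.mul_apply, ← map_mul, inv_mul_cancel_right]

theorem transport_index {A B C : Type*} [Group A] [Group B] [Group C] (E : A ≃* B)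
    {N : Subgroup A} {n : ℕ} (hi : N.index = n) (e : N ≃* C) :
    ∃ M : Subgroup B, M.index = n ∧ Nonempty (M ≃* C) :=
  ⟨N.map E.toMonoidHom, (Subgroup.index_map_equiv N E).trans hi, ⟨(E.subgroupMap N).symm.trans e⟩⟩

theorem realization : ∃ H : Subgroup (Equiv.Perm (Fin tab.size)), Cfsg.IsHe H ∧
    MulAction.IsPretransitive H (Fin tab.size) ∧ ∃ (F : Type) (_ : Field F) (_ : Fintype F),
      Fintype.card F = 4 ∧ ∃ N : Subgroup (MulAction.stabilizer H rep.z),
        N.index = 2 ∧ Nonempty (N ≃* Matrix.symplecticGroup (Fin 2) F) := by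
  obtain ⟨N, K, _, _, -, hi, hK, ⟨e⟩⟩ := exists_sp
  have e0 : Cfsg.Spor.He ≃* act.range := MonoidHom.ofInjective card_and_inj.2
  refine ⟨act.range, ?_, range_pretransitive, K, inferInstance, inferInstance, hK,
    transport_index (MulEquiv.ofBijective stabHom stabHom_bijective) hi e⟩
  have hs : IsSimpleGroup act.range := e0.isSimpleGroup_congr.1 isHe.1
  have hc : Nat.card act.range = 4030387200 := by
    rw [← Nat.card_congr e0.toEquiv]
    exact card_and_inj.1
  exact ⟨hs, hc⟩

end Cfsg.Agent.Lib.SporPres.He.Sp
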